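import Groth.Agent.NormCurve.Delta
import Groth.Agent.NormCurve.Normal
import Groth.Agent.ZarConn.AppIso
import Groth.Agent.ContractUP.Unique
import Groth.Agent.H23.P1Graph
import Groth.Agent.NagataLib.General
import Groth.Agent.NagataLib.ExtendFamily
import Groth.Agent.FibVanish.BlowUpDomain
import Groth.Agent.S11555

/-! Normal compactifications of birational morphisms over a Nagata domain. -/

noncomputable section

set_option linter.style.haveILetI false
set_option linter.unusedSectionVars false
set_option backward.isDefEq.respectTransparency false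
set_option backward.isDefEq.respectTransparency.types false
set_option maxHeartbeats 1000000

universe u

open CategoryTheory CategoryTheory.Limits AlgebraicGeometry TopologicalSpace Opposite

namespace Groth.Agent.RatSingExt

open Groth.Agent

variable {X Y Z : Scheme.{u}}

theorem isIso_stalkMap_congr (f : X ⟶ Y) {a b : X} (h : a = b) (ha : IsIso (f.stalkMap a)) :
    IsIso (f.stalkMap b) := h ▸ ha

/-- The stalk maps at the generic points of the factors of a composite with surjective stalk map. -/
theorem isIso_stalkMap_of_comp [AlgebraicGeometry.IsIntegral X] [AlgebraicGeometry.IsIntegral Y]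
    [AlgebraicGeometry.IsIntegral Z] (f : X ⟶ Y) (g : Y ⟶ Z) (h : X ⟶ Z) (hfg : f ≫ g = h)
    (hf : f (genericPoint X) = genericPoint Y) (hg : g (genericPoint Y) = genericPoint Z)
    (hs : Function.Surjective (h.stalkMap (genericPoint X))) : IsIso (g.stalkMap (genericPoint Y)) := by
  subst hfg
  have hd : ∀ {P Q : Scheme.{u}} [AlgebraicGeometry.IsIntegral P] [AlgebraicGeometry.IsIntegral Q] (k : P ⟶ Q)
      (_ : k (genericPoint P) = genericPoint Q) (p : P) (_ : p = genericPoint P),
      Function.Injective (k.stalkMap p) := by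
    intro P Q _ _ k hk p hp
    subst hp
    have hF₀ : IsField Q.functionField := Field.toIsField _
    have hF : IsField (Q.presheaf.stalk (k (genericPoint P))) := by
      rw [hk]; exact hF₀
    letI := hF.toField
    exact RingHom.injective (k.stalkMap (genericPoint P)).hom
  refine isIso_stalkMap_congr g hf ?_
  rw [Scheme.Hom.stalkMap_comp] at hs
  refine (ConcreteCategory.isIso_iff_bijective _).2 ⟨hd g hg _ hf, fun t => ?_⟩
  obtain ⟨s, hs'⟩ := hs (f.stalkMap (genericPoint X) t)
  exact ⟨s, hd f hf _ rfl hs'⟩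

/-- An isomorphism over each member of a family is one over the union. -/
theorem isIso_restrict_iSup {ι : Type*} (f : X ⟶ Y) (V : ι → Y.Opens) (h : ∀ i, IsIso (f ∣_ V i)) :
    IsIso (f ∣_ ⨆ i, V i) := by
  refine (IsZariskiLocalAtTarget.iff_of_iSup_eq_top (P := MorphismProperty.isomorphisms Scheme.{u})
    (fun i => (⨆ i, V i).ι ⁻¹ᵁ V i) ?_).2 fun i => ?_
  · rw [← Scheme.Hom.preimage_iSup, Scheme.Opens.ι_preimage_self]
  · refine ((MorphismProperty.isomorphisms Scheme.{u}).arrow_mk_iso_iff
      (morphismRestrictRestrict f _ _ ≪≫ morphismRestrictEq f ?_)).2 (h i)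
    rw [Scheme.Hom.image_preimage_eq_opensRange_inf, Scheme.Opens.opensRange_ι]
    exact inf_of_le_right (le_iSup V i)

section Normalisation

variable (J : Scheme.{u}) [AlgebraicGeometry.IsIntegral J] [IsNoetherian J] [J.IsSeparated]

theorem normalization_props (hNJ : ∀ W : J.affineOpens, CAlg.IsNagata Γ(J, (W : J.Opens))) :
    IsFinite (Curv2.normalizationι J) ∧ AlgebraicGeometry.IsIntegral (Curv2.normalization J) ∧
      Pi1.IsNormalScheme (Curv2.normalization J) ∧
      ∃ _ : AlgebraicGeometry.IsIntegral (Curv2.normalization J),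
        Curv2.normalizationι J (genericPoint (Curv2.normalization J)) = genericPoint J ∧
        IsIso ((Curv2.normalizationι J).stalkMap (genericPoint (Curv2.normalization J))) ∧
        ∀ y : J, IsIntegrallyClosed (J.presheaf.stalk y) →
          ∃ W : J.Opens, y ∈ W ∧ IsIso (Curv2.normalizationι J ∣_ W) := by
  haveI hfin := NormCurve.isFinite_normalizationι J hNJ
  haveI hint : AlgebraicGeometry.IsIntegral (Curv2.normalization J) := by
    haveI : IsDomain (J.presheaf.stalk (genericPoint J)) := inferInstanceAs (IsDomain J.functionField)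
    exact inferInstanceAs (AlgebraicGeometry.IsIntegral (J.fromSpecStalk (genericPoint J)).normalization)
  obtain ⟨V, hV, hiso⟩ := NormCurve.exists_isIso J hNJ
  haveI := hiso
  obtain ⟨hgen, hbir, -⟩ := ContractUP.birational_of_isIso_restrict (Curv2.normalizationι J) hV.nonempty
  refine ⟨hfin, hint, NormCurve.isNormalScheme_normalization J, hint, hgen, hbir, fun y hy => ?_⟩
  obtain ⟨U, hyU, hU⟩ := ZarConn.exists_nhd_isIso_app (Curv2.normalizationι J) (specializes_of_eq hgen)
    (fun x _ => ZarConn.ψ_surjective_of_bir (Curv2.normalizationι J) hgen hbir _ x) y hy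
  obtain ⟨_, ⟨W, hW, rfl⟩, hyW, hWU⟩ :=
    J.isBasis_affineOpens.exists_subset_of_mem_open hyU U.2
  exact ⟨W, hyW, (isIso_morphismRestrict_iff_isIso_app _ hW).2 (hU W hWU)⟩

end Normalisation

variable (A : Type u) [CommRing A] [IsDomain A] [IsNoetherianRing A]

/-- A birational morphism to a normal scheme proper over a Nagata domain has a normal compactification
containing the normal points of its source. -/
theorem exists_normal_compactification (hN : CAlg.IsNagata A) {S U : Scheme.{u}}
    (s : S ⟶ Spec (CommRingCat.of A)) [IsProper s] [AlgebraicGeometry.IsIntegral S]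
    (hS : Pi1.IsNormalScheme S) [AlgebraicGeometry.IsIntegral U] (g : U ⟶ S) [IsSeparated g]
    [LocallyOfFiniteType g] [QuasiCompact g]
    (hgen : g (genericPoint U) = genericPoint S) (hbir : IsIso (g.stalkMap (genericPoint U))) :
    ∃ (Y : Scheme.{u}) (p : Y ⟶ S) (W : U.Opens) (j : (W : Scheme.{u}) ⟶ Y),
      IsProper p ∧ AlgebraicGeometry.IsIntegral Y ∧ Pi1.IsNormalScheme Y ∧
      (∃ _ : AlgebraicGeometry.IsIntegral Y, p (genericPoint Y) = genericPoint S ∧
        IsIso (p.stalkMap (genericPoint Y))) ∧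
      (∃ V : S.Opens, (V : Set S).Nonempty ∧ IsIso (p ∣_ V)) ∧
      IsOpenImmersion j ∧ j ≫ p = W.ι ≫ g ∧
      ∀ u : U, IsIntegrallyClosed (U.presheaf.stalk u) → u ∈ W := by
  haveI : IsLocallyNoetherian S := LocallyOfFiniteType.isLocallyNoetherian s
  haveI : CompactSpace S := QuasiCompact.compactSpace_of_compactSpace s
  haveI : S.IsSeparated := ⟨by rw [← terminal.comp_from s]; infer_instance⟩
  obtain ⟨Y₀, i, p₀, hi, hiqc, hp₀, he⟩ := NagataLib.exists_compactification g
  haveI := hi
  haveI := hiqc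
  haveI := hp₀
  haveI : IsSchemeTheoreticallyDominant i.toImage :=
    Triage.SchDense.isSchemeTheoreticallyDominant_toImage i
  obtain ⟨hZ, hZgen⟩ := H23.P1Graph.image_integral i
  haveI := hZ
  let J : Scheme.{u} := i.ker.subscheme
  let i' : U ⟶ J := i.toImage
  haveI : IsOpenImmersion i' := inferInstanceAs (IsOpenImmersion i.toImage)
  let q : J ⟶ S := i.ker.subschemeι ≫ p₀
  haveI : IsProper q := inferInstanceAs (IsProper (i.ker.subschemeι ≫ p₀))
  have hiq : i' ≫ q = g := by
    show i.toImage ≫ i.imageι ≫ p₀ = g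
    rw [← Category.assoc, i.toImage_imageι, he]
  haveI : IsLocallyNoetherian J := LocallyOfFiniteType.isLocallyNoetherian q
  haveI : CompactSpace J := QuasiCompact.compactSpace_of_compactSpace q
  haveI : IsNoetherian J := {}
  haveI : J.IsSeparated := ⟨by rw [← terminal.comp_from q]; infer_instance⟩
  let T : Scheme.{u} := Spec (CommRingCat.of A)
  have hNJ : ∀ W : J.affineOpens, CAlg.IsNagata Γ(J, (W : J.Opens)) := fun W =>
    AlgSpDec.NagataLocal.isNagata_affineOpen (q ≫ s) (fun _ : PUnit.{u+1} => (⊤ : T.Opens)) iSup_const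
      (fun _ => isAffineOpen_top T)
      (fun _ => CAlgOdd.NagataFT.isNagata_of_ringEquiv (Scheme.ΓSpecIso (CommRingCat.of A)).commRingCatIsoToRingEquiv.symm hN)
      W.1 W.2
  obtain ⟨hfin, -, hnorm, hint, hνgen, hνbir, hnear⟩ := normalization_props J hNJ
  haveI := hfin
  haveI := hint
  let ν := Curv2.normalizationι J
  let Wn : J.Opens := ⨆ V : {V : J.Opens // IsIso (ν ∣_ V)}, V.1
  haveI : IsIso (ν ∣_ Wn) := isIso_restrict_iSup ν _ fun V => V.2
  let j : (i' ⁻¹ᵁ Wn).toScheme ⟶ Curv2.normalization J :=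
    (i' ∣_ Wn) ≫ inv (ν ∣_ Wn) ≫ (ν ⁻¹ᵁ Wn).ι
  haveI hj : IsOpenImmersion j := inferInstanceAs (IsOpenImmersion ((i' ∣_ Wn) ≫ inv (ν ∣_ Wn) ≫ (ν ⁻¹ᵁ Wn).ι))
  have hjν : j ≫ ν = (i' ⁻¹ᵁ Wn).ι ≫ i' := by
    show ((i' ∣_ Wn) ≫ inv (ν ∣_ Wn) ≫ (ν ⁻¹ᵁ Wn).ι) ≫ ν = _
    simp only [Category.assoc]
    rw [← morphismRestrict_ι ν Wn, IsIso.inv_hom_id_assoc, morphismRestrict_ι]
  have hiJ : i' (genericPoint U) = genericPoint J := genericPoint_eq_of_isOpenImmersion i'
  have hqgen : q (genericPoint J) = genericPoint S := by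
    rw [← hiJ, ← Scheme.Hom.comp_apply, hiq, hgen]
  have hqbir : IsIso (q.stalkMap (genericPoint J)) :=
    isIso_stalkMap_of_comp i' q g hiq hiJ hqgen ((ConcreteCategory.bijective_of_isIso (g.stalkMap (genericPoint U))).2)
  have hpgen : (ν ≫ q) (genericPoint (Curv2.normalization J)) = genericPoint S := by
    rw [Scheme.Hom.comp_apply]
    exact (congrArg q hνgen).trans hqgen
  have hpbir : IsIso ((ν ≫ q).stalkMap (genericPoint (Curv2.normalization J))) := by
    haveI := hνbir
    haveI : IsIso (q.stalkMap (ν (genericPoint (Curv2.normalization J)))) :=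
      isIso_stalkMap_congr q hνgen.symm hqbir
    rw [Scheme.Hom.stalkMap_comp]
    infer_instance
  obtain ⟨V, hV, -, hVc⟩ := S11555.result (ν ≫ q) hS hpgen (ConcreteCategory.bijective_of_isIso _)
  refine ⟨Curv2.normalization J, ν ≫ q, i' ⁻¹ᵁ Wn, j, inferInstance, hint, hnorm, ⟨hint, hpgen, hpbir⟩,
    ⟨V, ⟨genericPoint S, ?_⟩, hV⟩, hj, ?_, fun u hu => ?_⟩
  · by_contra h
    have h2 := hVc (genericPoint S) h
    have h0 : ringKrullDim (S.presheaf.stalk (genericPoint S)) = 0 :=
      ringKrullDim_eq_zero_of_isField (Field.toIsField S.functionField)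
    rw [h0] at h2
    exact absurd h2 (by decide)
  · rw [← Category.assoc, hjν, Category.assoc, hiq]
  · haveI := hu
    have hy : IsIntegrallyClosed (J.presheaf.stalk (i' u)) :=
      IsIntegrallyClosed.of_equiv (asIso (i'.stalkMap u)).commRingCatIsoToRingEquiv.symm
    obtain ⟨W, hyW, hW⟩ := hnear (i' u) hy
    exact Opens.mem_iSup.2 ⟨⟨W, hW⟩, hyW⟩

end Groth.Agent.RatSingExt
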