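import Groth.Agent.FibVanish.ExcDiv

/-! The dimension of a modification. -/

noncomputable section

set_option linter.style.haveILetI false
set_option backward.isDefEq.respectTransparency false
set_option backward.isDefEq.respectTransparency.types false
set_option maxHeartbeats 1000000

universe u

open CategoryTheory CategoryTheory.Limits AlgebraicGeometry TopologicalSpace Opposite

namespace Groth.Agent.RatSingExt

open Groth.Agent

/-- The local rings of an integral scheme proper and birational over a domain have at most the
dimension of the domain. -/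
theorem dim_stalk_le {A : Type u} [CommRing A] [IsDomain A] [IsNoetherianRing A] {X : Scheme.{u}}
    [AlgebraicGeometry.IsIntegral X] (f : X ⟶ Spec (CommRingCat.of A)) [IsProper f]
    (hbir : ∃ U : (Spec (CommRingCat.of A)).Opens, (U : Set (Spec (CommRingCat.of A))).Nonempty ∧ IsIso (f ∣_ U))
    (x : X) : ringKrullDim (X.presheaf.stalk x) ≤ ringKrullDim A := by
  letI : X.Over (Spec (CommRingCat.of A)) := ⟨f⟩
  haveI : IsProper (X ↘ Spec (CommRingCat.of A)) := ‹IsProper f›
  haveI := FibVanish.isNoetherian_of_proper A (X := X)
  haveI : X.IsSeparated := ⟨by rw [← terminal.comp_from f]; infer_instance⟩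
  obtain ⟨U, hU, hiso⟩ := hbir
  haveI := hiso
  obtain ⟨hgen, hb, -⟩ := ContractUP.birational_of_isIso_restrict f hU
  have hbir' : RadPt.IsBirational f := by
    rw [RadPt.IsBirational, genericPoints_eq_singleton, genericPoints_eq_singleton]
    refine ⟨⟨fun x hx => ?_, fun x hx y hy _ => (Set.mem_singleton_iff.1 hx).trans (Set.mem_singleton_iff.1 hy).symm,
      fun y hy => ⟨genericPoint X, rfl, hgen.trans (Set.mem_singleton_iff.1 hy).symm⟩⟩, fun y hy => ?_⟩
    · rw [Set.mem_singleton_iff.1 hx]; exact hgen
    · have hu : ∀ x : X, f x = y → x = genericPoint X := fun x hx => by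
        have hyU : y ∈ U := by
          rw [Set.mem_singleton_iff.1 hy]
          exact ((genericPoint_spec _).mem_open_set_iff U.2).2 (by rwa [Set.univ_inter])
        have h1 : f x ∈ U := by rw [hx]; exact hyU
        have h2 : f (genericPoint X) ∈ U := by
          rw [hgen, ← Set.mem_singleton_iff.1 hy]; exact hyU
        have := (f ∣_ U).isOpenEmbedding.injective
          (a₁ := ⟨x, h1⟩) (a₂ := ⟨genericPoint X, h2⟩) (Subtype.ext (by
            rw [morphismRestrict_base_coe, morphismRestrict_base_coe]
            show f x = f (genericPoint X)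
            rw [hx, hgen, ← Set.mem_singleton_iff.1 hy]))
        exact congrArg Subtype.val this
      refine ⟨fun x x' hx hx' => (hu x hx).trans (hu x' hx').symm, fun x hx => ?_⟩
      rw [hu x hx]
      refine ⟨RingHom.injective _, fun t => ?_⟩
      haveI := hb
      obtain ⟨s, rfl⟩ := IsLocalRing.residue_surjective t
      obtain ⟨r, rfl⟩ := (ConcreteCategory.bijective_of_isIso (f.stalkMap (genericPoint X))).2 s
      exact ⟨IsLocalRing.residue _ r, rfl⟩
  refine (S18879.result f hbir' x).trans ?_
  let q : PrimeSpectrum A := f x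
  letI : Algebra A ((Spec (CommRingCat.of A)).presheaf.stalk (f x)) := StructureSheaf.stalkAlgebra A q
  haveI : IsLocalization.AtPrime ((Spec (CommRingCat.of A)).presheaf.stalk (f x)) q.asIdeal :=
    StructureSheaf.IsLocalization.to_stalk A q
  exact (IsLocalization.AtPrime.ringKrullDim_eq_height q.asIdeal _).le.trans Ideal.height_le_ringKrullDim_of_isPrime

/-- A point with a two-dimensional local ring is closed, when no local ring is larger. -/
theorem isClosed_of_dim {X : Scheme.{u}} (hX : ∀ x : X, ringKrullDim (X.presheaf.stalk x) ≤ 2) (x : X)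
    (hx : 2 ≤ ringKrullDim (X.presheaf.stalk x)) : IsClosed ({x} : Set X) := by
  rw [← closure_subset_iff_isClosed]
  intro z hz
  by_contra hne
  have hsp : x ⤳ z := specializes_iff_mem_closure.2 hz
  have hlt : z < x := lt_of_le_of_ne (show z ≤ x from hsp) (fun h => hne (h ▸ rfl))
  have h1 := hX z
  have h2 := hX x
  rw [ringKrullDim_stalk_eq_coheight] at h1 h2 hx
  have h2e : (((2 : ℕ∞)) : WithBot ℕ∞) = 2 := rfl
  rw [← h2e] at h1 h2 hx
  have hx2 : Order.coheight x = 2 := le_antisymm (WithBot.coe_le_coe.1 h2) (WithBot.coe_le_coe.1 hx)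
  have h3 : Order.coheight x + 1 ≤ Order.coheight z := Order.coheight_add_one_le hlt
  rw [hx2] at h3
  have h4 : Order.coheight z ≤ 2 := WithBot.coe_le_coe.1 h1
  exact absurd (h3.trans h4) (by decide)

end Groth.Agent.RatSingExt
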