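import Groth.Agent.RatSingExt.Compact
import Groth.Agent.IndEtLib.Localization
import Groth.Agent.S0591
import Groth.Agent.S2074
import Groth.Agent.S4366

/-! Modifications of a local ring of a surface come from modifications of the surface. -/

noncomputable section

set_option linter.style.haveILetI false
set_option linter.unusedSectionVars false
set_option backward.isDefEq.respectTransparency false
set_option backward.isDefEq.respectTransparency.types false
set_option maxHeartbeats 1000000

universe u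

open CategoryTheory CategoryTheory.Limits AlgebraicGeometry TopologicalSpace Opposite

namespace Groth.Agent.RatSingExt

open Groth.Agent

/-- A square whose composite with a monomorphism is cartesian is cartesian. -/
theorem isPullback_of_comp_mono {C : Type*} [Category C] {P Z Z' S R : C} {t : P ⟶ Z} {m : Z ⟶ Z'}
    {f : P ⟶ R} {g : Z' ⟶ S} {π : R ⟶ S} [Mono m] (h : IsPullback (t ≫ m) f g π) :
    IsPullback t f (m ≫ g) π :=
  IsPullback.of_isLimit' ⟨by rw [← Category.assoc]; exact h.w⟩
    (PullbackCone.IsLimit.mk _ (fun s => h.lift (s.fst ≫ m) s.snd (by rw [Category.assoc]; exact s.condition))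
      (fun s => by rw [← cancel_mono m, Category.assoc, h.lift_fst])
      (fun s => h.lift_snd _ _ _)
      (fun s l h₁ h₂ => h.hom_ext (by rw [h.lift_fst, ← Category.assoc, h₁]) (by rw [h.lift_snd, h₂])))

/-- Composing the corner with a monomorphism. -/
theorem isPullback_comp_mono {C : Type*} [Category C] {P Z D S R : C} {t : P ⟶ Z}
    {f : P ⟶ R} {g : Z ⟶ D} {π : R ⟶ D} (h : IsPullback t f g π) (m : D ⟶ S) [Mono m] :
    IsPullback t f (g ≫ m) (π ≫ m) :=
  IsPullback.of_isLimit' ⟨by rw [← Category.assoc, h.w, Category.assoc]⟩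
    (PullbackCone.IsLimit.mk _
      (fun s => h.lift s.fst s.snd (by rw [← cancel_mono m, Category.assoc, Category.assoc]; exact s.condition))
      (fun s => h.lift_fst _ _ _) (fun s => h.lift_snd _ _ _)
      (fun s l h₁ h₂ => h.hom_ext (by rw [h.lift_fst, h₁]) (by rw [h.lift_snd, h₂])))

/-- A flat preimmersion induces isomorphisms of stalks. -/
theorem bijective_stalkMap {P Q : Scheme.{u}} (f : P ⟶ Q) [IsPreimmersion f] [Flat f] (x : P) :
    Function.Bijective (f.stalkMap x) := by
  refine ⟨?_, f.stalkMap_surjective x⟩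
  have hfl : (f.stalkMap x).hom.Flat := Flat.stalkMap f x
  letI := (f.stalkMap x).hom.toAlgebra
  haveI : Module.Flat (Q.presheaf.stalk (f x)) (P.presheaf.stalk x) := hfl
  haveI : IsLocalHom (algebraMap (Q.presheaf.stalk (f x)) (P.presheaf.stalk x)) :=
    inferInstanceAs (IsLocalHom (f.stalkMap x).hom)
  haveI := Module.FaithfullyFlat.of_flat_of_isLocalHom (A := Q.presheaf.stalk (f x)) (B := P.presheaf.stalk x)
  exact FaithfulSMul.algebraMap_injective (Q.presheaf.stalk (f x)) (P.presheaf.stalk x)

/-- A proper morphism to a localisation comes from a proper morphism to a stage. -/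
theorem exists_stage {R₀ R : Type u} [CommRing R₀] [CommRing R] [Algebra R₀ R] (M : Submonoid R₀)
    [IsLocalization M R] {X₁ : Scheme.{u}} (f : X₁ ⟶ Spec (CommRingCat.of R)) [IsProper f]
    [LocallyOfFinitePresentation f] :
    ∃ (m : IndEtLib.LocIdx M) (Xk : Scheme.{u}) (fk : Xk ⟶ Spec (CommRingCat.of m.Stage)) (l : X₁ ⟶ Xk),
      IsProper fk ∧ IsPullback l f fk (Spec.map (CommRingCat.ofHom (IndEtLib.LocIdx.toLoc R m).toRingHom)) := by
  obtain ⟨hcol⟩ := IndEtLib.nonempty_isColimit_locCocone M R
  haveI : IsConnected (IndEtLib.LocIdx M) := IsFiltered.isConnected _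
  let F : (IndEtLib.LocIdx M)ᵒᵖ ⥤ Scheme.{u} :=
    (IndEtLib.locDiagram M ⋙ Under.forget _).op ⋙ Scheme.Spec
  let c : Cone F := Scheme.Spec.mapCone ((Under.forget _).mapCocone (IndEtLib.locCocone M R)).op
  have hc : IsLimit c := isLimitOfPreserves Scheme.Spec (isColimitOfPreserves (Under.forget _) hcol).op
  haveI hA : ∀ i, IsAffine (F.obj i) := fun i => AlgebraicGeometry.isAffine_Spec _
  haveI : ∀ (i j : (IndEtLib.LocIdx M)ᵒᵖ) (g : i ⟶ j), IsAffineHom (F.map g) := fun i j g =>
    @isAffineHom_of_isAffine _ _ (F.map g) (hA i) (hA j)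
  haveI : ∀ i, CompactSpace (F.obj i) := fun i => inferInstanceAs (CompactSpace (Spec _))
  haveI : ∀ i, QuasiSeparatedSpace (F.obj i) := fun i => inferInstanceAs (QuasiSeparatedSpace (Spec _))
  let f' : X₁ ⟶ c.pt := f
  haveI : IsProper f' := ‹IsProper f›
  haveI : LocallyOfFinitePresentation f' := ‹LocallyOfFinitePresentation f›
  haveI : CompactSpace c.pt := inferInstanceAs (CompactSpace (Spec (CommRingCat.of R)))
  haveI : QuasiSeparatedSpace c.pt := inferInstanceAs (QuasiSeparatedSpace (Spec (CommRingCat.of R)))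
  obtain ⟨i, Xi, fi, q, hlfp, hqc, hqs, hsq⟩ := S0591.result F c hc X₁ f'
  haveI := hlfp
  haveI := hqc
  haveI := hqs
  haveI : CompactSpace Xi := QuasiCompact.compactSpace_of_compactSpace fi
  haveI : QuasiSeparatedSpace Xi := quasiSeparatedSpace_of_quasiSeparated fi
  haveI : CompactSpace X₁ := QuasiCompact.compactSpace_of_compactSpace f'
  haveI : QuasiSeparatedSpace X₁ := quasiSeparatedSpace_of_quasiSeparated f'
  obtain ⟨k, φ, Xk, Yk, fk, gk, pY, pX, hY', hX', hfk⟩ :=
    S2074.result F c hc i fi (𝟙 (F.obj i)) f' (𝟙 c.pt) (c.π.app i) q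
      (IsPullback.of_vert_isIso ⟨by simp⟩) hsq
  haveI : IsIso gk := hY'.isIso_snd_of_isIso
  haveI := hfk
  have h1 : IsPullback pX (fk ≫ gk) fi (F.map φ) := by
    have := hX'.paste_vert hY'
    rwa [Category.comp_id] at this
  let l : X₁ ⟶ Xk := h1.lift q (f' ≫ c.π.app k) (by rw [Category.assoc, c.w]; exact hsq.w)
  have hl : IsPullback l f' (fk ≫ gk) (c.π.app k) := IsPullback.of_right
    (by rw [h1.lift_fst, c.w]; exact hsq) (h1.lift_snd _ _ _) h1
  exact ⟨unop k, Xk, fk ≫ gk, l, inferInstance, hl⟩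

variable (A : Type u) [CommRing A] [IsDomain A] [IsNoetherianRing A]

/-- A normal modification of the local ring at a point of a normal scheme proper over a Nagata domain is
the base change of a normal modification of that scheme. -/
theorem exists_model (hN : CAlg.IsNagata A) {X : Scheme.{u}} (s : X ⟶ Spec (CommRingCat.of A)) [IsProper s]
    [AlgebraicGeometry.IsIntegral X] (hX : Pi1.IsNormalScheme X) (x : X) {X₁ : Scheme.{u}}
    (f₁ : X₁ ⟶ Spec (X.presheaf.stalk x)) [IsProper f₁] [AlgebraicGeometry.IsIntegral X₁]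
    (hX₁ : Pi1.IsNormalScheme X₁)
    (hbir : ∃ U : (Spec (X.presheaf.stalk x)).Opens, (U : Set (Spec (X.presheaf.stalk x))).Nonempty ∧ IsIso (f₁ ∣_ U)) :
    ∃ (Y : Scheme.{u}) (π : Y ⟶ X) (g : X₁ ⟶ Y), IsProper π ∧ Pi1.IsNormalScheme Y ∧
      (∃ _ : AlgebraicGeometry.IsIntegral Y, π (genericPoint Y) = genericPoint X ∧
        IsIso (π.stalkMap (genericPoint Y))) ∧
      (∃ V : X.Opens, (V : Set X).Nonempty ∧ IsIso (π ∣_ V)) ∧
      IsPullback g f₁ π (X.fromSpecStalk x) := by
  classical
  haveI : IsLocallyNoetherian X := LocallyOfFiniteType.isLocallyNoetherian s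
  haveI : CompactSpace X := QuasiCompact.compactSpace_of_compactSpace s
  haveI : IsNoetherian X := {}
  haveI : X.IsSeparated := ⟨by rw [← terminal.comp_from s]; infer_instance⟩
  obtain ⟨_, ⟨V, hV, rfl⟩, hx, -⟩ := X.isBasis_affineOpens.exists_subset_of_mem_open (Set.mem_univ x) isOpen_univ
  haveI : IsAffineOpen V := hV
  letI : Algebra Γ(X, V) (X.presheaf.stalk x) := TopCat.Presheaf.algebra_section_stalk X.presheaf ⟨x, hx⟩
  let p : PrimeSpectrum Γ(X, V) := hV.primeIdealOf ⟨x, hx⟩
  haveI : IsLocalization p.asIdeal.primeCompl (X.presheaf.stalk x) := hV.isLocalization_stalk ⟨x, hx⟩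
  haveI : IsNoetherianRing Γ(X, V) := IsLocallyNoetherian.component_noetherian ⟨V, hV⟩
  let M := p.asIdeal.primeCompl
  haveI : IsLocallyNoetherian (Spec (X.presheaf.stalk x)) := inferInstance
  haveI : LocallyOfFinitePresentation f₁ := LocallyOfFinitePresentation.iff_locallyOfFiniteType.2 inferInstance
  obtain ⟨m, Xk, fk', l, hfk, hl⟩ := exists_stage (R := X.presheaf.stalk x) M f₁
  haveI := hfk
  haveI : CompactSpace X₁ := QuasiCompact.compactSpace_of_compactSpace f₁
  let el : Γ(X, V) := IndEtLib.LocIdx.el m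
  let ιk : Spec (CommRingCat.of m.Stage) ⟶ X :=
    Spec.map (CommRingCat.ofHom (algebraMap Γ(X, V) m.Stage)) ≫ hV.fromSpec
  haveI : IsOpenImmersion (Spec.map (CommRingCat.ofHom (algebraMap Γ(X, V) m.Stage))) :=
    IsOpenImmersion.of_isLocalization el
  haveI : IsOpenImmersion ιk := inferInstanceAs (IsOpenImmersion
    (Spec.map (CommRingCat.ofHom (algebraMap Γ(X, V) m.Stage)) ≫ hV.fromSpec))
  let πk := Spec.map (CommRingCat.ofHom (IndEtLib.LocIdx.toLoc (X.presheaf.stalk x) m).toRingHom)
  have hι : πk ≫ ιk = X.fromSpecStalk x := by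
    rw [← hV.fromSpecStalk_eq_fromSpecStalk hx, IsAffineOpen.fromSpecStalk]
    show Spec.map _ ≫ Spec.map _ ≫ hV.fromSpec = _
    rw [← Spec.map_comp_assoc]
    congr 2
    ext a
    exact (IndEtLib.LocIdx.toLoc (X.presheaf.stalk x) m).commutes a
  haveI : QuasiCompact l := by
    haveI : IsNoetherianRing m.Stage := IsLocalization.isNoetherianRing (Submonoid.powers el) _ inferInstance
    haveI : IsLocallyNoetherian Xk := LocallyOfFiniteType.isLocallyNoetherian fk'
    haveI : QuasiSeparatedSpace Xk := inferInstance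
    exact quasiCompact_of_compactSpace l
  obtain ⟨hZ, hZgen⟩ := H23.P1Graph.image_integral l
  haveI := hZ
  let Z : Scheme.{u} := l.ker.subscheme
  let a : X₁ ⟶ Z := l.toImage
  have ha : a ≫ l.imageι = l := l.toImage_imageι
  have h2 : IsPullback a f₁ (l.imageι ≫ fk') πk := isPullback_of_comp_mono (by rw [ha]; exact hl)
  let g₂ : Z ⟶ X := (l.imageι ≫ fk') ≫ ιk
  have h3 : IsPullback a f₁ g₂ (X.fromSpecStalk x) := by
    have := isPullback_comp_mono h2 ιk
    rwa [hι] at this
  haveI : IsSeparated g₂ := inferInstanceAs (IsSeparated ((l.imageι ≫ fk') ≫ ιk))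
  haveI : LocallyOfFiniteType g₂ := inferInstanceAs (LocallyOfFiniteType ((l.imageι ≫ fk') ≫ ιk))
  haveI : QuasiCompact g₂ := inferInstanceAs (QuasiCompact ((l.imageι ≫ fk') ≫ ιk))
  haveI : Flat (X.fromSpecStalk x) := S4366.flat_fromSpecStalk x
  haveI : IsPreimmersion a := MorphismProperty.of_isPullback h3.flip inferInstance
  haveI : Flat a := MorphismProperty.of_isPullback h3.flip inferInstance
  obtain ⟨U₀, hU₀, hiso₀⟩ := hbir
  haveI := hiso₀
  obtain ⟨hf₁gen, hf₁bir, -⟩ := ContractUP.birational_of_isIso_restrict f₁ hU₀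
  have hRgen : X.fromSpecStalk x (genericPoint (Spec (X.presheaf.stalk x))) = genericPoint X := by
    obtain ⟨r, hr⟩ : genericPoint X ∈ Set.range (X.fromSpecStalk x) := by
      rw [Scheme.range_fromSpecStalk]
      exact genericPoint_specializes x
    refine ((genericPoint_specializes _).antisymm ?_).eq.symm
    rw [← hr]
    exact (genericPoint_specializes r).map (X.fromSpecStalk x).continuous
  have hagen : a (genericPoint X₁) = genericPoint Z := by
    apply l.imageι.isEmbedding.injective
    rw [← Scheme.Hom.comp_apply, ha]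
    exact hZgen.symm
  have hcomp : a ≫ g₂ = f₁ ≫ X.fromSpecStalk x := h3.w
  have hg₂gen : g₂ (genericPoint Z) = genericPoint X := by
    rw [← hagen, ← Scheme.Hom.comp_apply, hcomp, Scheme.Hom.comp_apply, hf₁gen, hRgen]
  have hg₂bir : IsIso (g₂.stalkMap (genericPoint Z)) := by
    refine isIso_stalkMap_of_comp a g₂ (f₁ ≫ X.fromSpecStalk x) hcomp hagen hg₂gen ?_
    rw [Scheme.Hom.stalkMap_comp]
    exact (ConcreteCategory.bijective_of_isIso (f₁.stalkMap (genericPoint X₁))).2.comp
      ((X.fromSpecStalk x).stalkMap_surjective _)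
  obtain ⟨Y, π, W, j, hπ, hY, hYn, hYgen, hπbir, hj, hjπ, hW⟩ :=
    exists_normal_compactification A hN s hX g₂ hg₂gen hg₂bir
  haveI := hπ
  haveI := hY
  haveI := hj
  have hrange : Set.range a ⊆ Set.range W.ι := by
    rw [Scheme.Opens.range_ι]
    rintro _ ⟨y, rfl⟩
    refine hW _ ?_
    haveI := (hX₁ y).1
    haveI := (hX₁ y).2
    exact IsIntegrallyClosed.of_equiv (RingEquiv.ofBijective (a.stalkMap y).hom (bijective_stalkMap a y)).symm
  let t : X₁ ⟶ W := IsOpenImmersion.lift W.ι a hrange
  have ht : t ≫ W.ι = a := IsOpenImmersion.lift_fac _ _ _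
  have h4 : IsPullback t f₁ (j ≫ π) (X.fromSpecStalk x) := by
    rw [hjπ]
    exact isPullback_of_comp_mono (by rw [ht]; exact h3)
  refine ⟨Y, π, t ≫ j, hπ, hYn, hYgen, hπbir, ?_⟩
  -- the open piece is everything
  let P := pullback π (X.fromSpecStalk x)
  let u : X₁ ⟶ P := pullback.lift (t ≫ j) f₁ (by rw [Category.assoc]; exact h4.w)
  have hu : IsPullback t u j (pullback.fst π (X.fromSpecStalk x)) :=
    IsPullback.of_bot (by rw [pullback.lift_snd]; exact h4) (pullback.lift_fst _ _ _).symm
      (IsPullback.of_hasPullback π (X.fromSpecStalk x))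
  haveI : IsOpenImmersion u := MorphismProperty.of_isPullback hu inferInstance
  haveI : IsProper (u ≫ pullback.snd π (X.fromSpecStalk x)) := by rw [pullback.lift_snd]; infer_instance
  haveI : IsProper u := IsProper.of_comp u (pullback.snd π (X.fromSpecStalk x))
  haveI : IsPreimmersion (pullback.fst π (X.fromSpecStalk x)) := inferInstance
  haveI : Surjective u := by
    refine ⟨fun z => ?_⟩
    have hclosed : IsClosed (Set.range u) := u.isClosedMap.isClosed_range
    let e := pullback.fst π (X.fromSpecStalk x)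
    have he : e (u (genericPoint X₁)) = genericPoint Y := by
      rw [← Scheme.Hom.comp_apply, pullback.lift_fst, Scheme.Hom.comp_apply]
      haveI : Nonempty (W : Scheme.{u}) := ⟨t (genericPoint X₁)⟩
      haveI : AlgebraicGeometry.IsIntegral (W : Scheme.{u}) := isIntegral_of_isOpenImmersion W.ι
      have ht1 : t (genericPoint X₁) = genericPoint (W : Scheme.{u}) := by
        apply W.ι.isOpenEmbedding.injective
        rw [← Scheme.Hom.comp_apply, ht, hagen, genericPoint_eq_of_isOpenImmersion W.ι]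
      rw [ht1, genericPoint_eq_of_isOpenImmersion j]
    have hsp : u (genericPoint X₁) ⤳ z := by
      refine e.isEmbedding.isInducing.specializes_iff.1 ?_
      rw [he]
      exact genericPoint_specializes _
    exact hsp.mem_closed hclosed ⟨_, rfl⟩
  haveI : IsIso u := isIso_of_isOpenImmersion_of_opensRange_eq_top u
    (Opens.ext (Set.eq_univ_of_forall fun z => u.surjective z))
  exact (IsPullback.of_hasPullback π (X.fromSpecStalk x)).of_iso (asIso u).symm (Iso.refl _) (Iso.refl _)
    (Iso.refl _) (by simp [← cancel_epi u, u]) (by simp [← cancel_epi u, u])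
    (by simp) (by simp)

end Groth.Agent.RatSingExt
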