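import Groth.Agent.RatSingExt.Vanish

/-! Transfer along ring isomorphisms. -/

noncomputable section

set_option linter.style.haveILetI false
set_option backward.isDefEq.respectTransparency false
set_option backward.isDefEq.respectTransparency.types false

universe u

open CategoryTheory CategoryTheory.Limits AlgebraicGeometry TopologicalSpace Opposite

namespace Groth.Agent.RatSingExt

open Groth.Agent

/-- Rational singularities only depend on the isomorphism class of the ring. -/
theorem isRationalSing_of_equiv {R R' : Type u} [CommRing R] [CommRing R'] (e : R ≃+* R')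
    (h : Curv2.IsRationalSing R) : Curv2.IsRationalSing R' := by
  intro X f hf hX hXn ⟨U, hU, hUi⟩
  haveI := hf
  haveI := hUi
  let φ : Spec (CommRingCat.of R') ⟶ Spec (CommRingCat.of R) := Spec.map e.toCommRingCatIso.hom
  haveI : IsIso φ := inferInstanceAs (IsIso (Spec.map e.toCommRingCatIso.hom))
  refine h X (f ≫ φ) inferInstance hX hXn ⟨φ ''ᵁ U, hU.image φ.base, ?_⟩
  rw [morphismRestrict_comp]
  haveI : IsIso (f ∣_ φ ⁻¹ᵁ φ ''ᵁ U) := by rw [Scheme.Hom.preimage_image_eq]; infer_instance
  infer_instance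

/-- The spectrum of a normal domain is normal. -/
theorem isNormalScheme_Spec (A : Type u) [CommRing A] [IsDomain A] [IsIntegrallyClosed A] :
    Pi1.IsNormalScheme (Spec (CommRingCat.of A)) := by
  intro x
  let q : PrimeSpectrum A := x
  letI : Algebra A ((Spec (CommRingCat.of A)).presheaf.stalk x) := StructureSheaf.stalkAlgebra A q
  haveI : IsLocalization.AtPrime ((Spec (CommRingCat.of A)).presheaf.stalk x) q.asIdeal :=
    StructureSheaf.IsLocalization.to_stalk A q
  exact ⟨IsLocalization.isDomain_of_le_nonZeroDivisors (R := A) (S := (Spec (CommRingCat.of A)).presheaf.stalk x) q.asIdeal.primeCompl_le_nonZeroDivisors,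
    isIntegrallyClosed_of_isLocalization (R := A) ((Spec (CommRingCat.of A)).presheaf.stalk x) q.asIdeal.primeCompl q.asIdeal.primeCompl_le_nonZeroDivisors⟩

/-- A birational extension of domains gives a birational morphism of spectra. -/
theorem birational_specMap {A C : Type u} [CommRing A] [IsDomain A] [CommRing C] [IsDomain C]
    (φ : A →+* C) (hφ : Function.Injective φ) (hfrac : ∀ c : C, ∃ a a' : A, a' ≠ 0 ∧ φ a' * c = φ a) :
    Spec.map (CommRingCat.ofHom φ) (genericPoint (Spec (CommRingCat.of C))) =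
        genericPoint (Spec (CommRingCat.of A)) ∧
      IsIso ((Spec.map (CommRingCat.ofHom φ)).stalkMap (genericPoint (Spec (CommRingCat.of C)))) := by
  let η : PrimeSpectrum C := genericPoint (Spec (CommRingCat.of C))
  let ξ : PrimeSpectrum A := genericPoint (Spec (CommRingCat.of A))
  let g := Spec.map (CommRingCat.ofHom φ)
  have hη : η.asIdeal = ⊥ := le_bot_iff.1
    ((PrimeSpectrum.le_iff_specializes η ⟨⊥, Ideal.isPrime_bot⟩).2 (genericPoint_specializes _))
  have hξ : ξ.asIdeal = ⊥ := le_bot_iff.1
    ((PrimeSpectrum.le_iff_specializes ξ ⟨⊥, Ideal.isPrime_bot⟩).2 (genericPoint_specializes _))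
  have hgen : g η = ξ := PrimeSpectrum.ext (by
    show Ideal.comap φ η.asIdeal = ξ.asIdeal
    rw [hη, hξ]
    exact Ideal.comap_bot_of_injective _ hφ)
  refine ⟨hgen, ?_⟩
  let ζ : PrimeSpectrum A := g η
  have hζ : ζ.asIdeal = ⊥ := (congrArg PrimeSpectrum.asIdeal hgen).trans hξ
  letI : Algebra C ((Spec (CommRingCat.of C)).presheaf.stalk η) := StructureSheaf.stalkAlgebra C η
  haveI : IsLocalization.AtPrime ((Spec (CommRingCat.of C)).presheaf.stalk η) η.asIdeal :=
    StructureSheaf.IsLocalization.to_stalk C η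
  letI : Algebra A ((Spec (CommRingCat.of A)).presheaf.stalk ζ) := StructureSheaf.stalkAlgebra A ζ
  haveI : IsLocalization.AtPrime ((Spec (CommRingCat.of A)).presheaf.stalk ζ) ζ.asIdeal :=
    StructureSheaf.IsLocalization.to_stalk A ζ
  let Φ : (Spec (CommRingCat.of A)).presheaf.stalk ζ →+* (Spec (CommRingCat.of C)).presheaf.stalk η :=
    (g.stalkMap η).hom
  have hkey : ∀ a : A, Φ (algebraMap A ((Spec (CommRingCat.of A)).presheaf.stalk ζ) a) =
      algebraMap C ((Spec (CommRingCat.of C)).presheaf.stalk η) (φ a) := fun a =>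
    stalkMap_toStalk_apply (CommRingCat.ofHom φ) η a
  refine (ConcreteCategory.isIso_iff_bijective _).2 (show Function.Bijective Φ from ⟨?_, fun z => ?_⟩)
  · refine (injective_iff_map_eq_zero Φ).2 fun z hz => ?_
    obtain ⟨a, s, rfl⟩ := IsLocalization.exists_mk'_eq ζ.asIdeal.primeCompl z
    have h0 := congrArg (· * Φ (algebraMap A _ (s : A))) hz
    simp only [zero_mul, ← map_mul, IsLocalization.mk'_spec] at h0
    rw [hkey] at h0
    have hle : η.asIdeal.primeCompl ≤ nonZeroDivisors C := η.asIdeal.primeCompl_le_nonZeroDivisors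
    have ha : a = 0 := hφ ((IsLocalization.injective ((Spec (CommRingCat.of C)).presheaf.stalk η) hle
      (h0.trans (map_zero _).symm)).trans (map_zero φ).symm)
    rw [ha, IsLocalization.mk'_zero]
  obtain ⟨c, d, rfl⟩ := IsLocalization.exists_mk'_eq η.asIdeal.primeCompl z
  have hd : (d : C) ≠ 0 := fun h => d.2 (by rw [h]; exact zero_mem _)
  obtain ⟨a, a', ha', h⟩ := hfrac c
  obtain ⟨b, b', hb', h'⟩ := hfrac d
  have hb : b ≠ 0 := fun h0 => mul_ne_zero ((map_ne_zero_iff φ hφ).2 hb') hd (by rw [h', h0, map_zero])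
  let t : ζ.asIdeal.primeCompl := ⟨a' * b, by
    show a' * b ∉ ζ.asIdeal
    rw [hζ]
    simpa using And.intro ha' hb⟩
  refine ⟨IsLocalization.mk' _ (a * b') t, ?_⟩
  have hsp := congrArg Φ (IsLocalization.mk'_spec ((Spec (CommRingCat.of A)).presheaf.stalk ζ) (a * b') t)
  rw [map_mul, hkey, hkey] at hsp
  have hne : algebraMap C ((Spec (CommRingCat.of C)).presheaf.stalk η) (φ (t : A)) ≠ 0 := fun h0 => by
    have := IsLocalization.injective ((Spec (CommRingCat.of C)).presheaf.stalk η)
      η.asIdeal.primeCompl_le_nonZeroDivisors (h0.trans (map_zero _).symm)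
    exact mul_ne_zero ha' hb (hφ (this.trans (map_zero φ).symm))
  haveI : IsDomain ((Spec (CommRingCat.of C)).presheaf.stalk η) :=
    IsLocalization.isDomain_of_le_nonZeroDivisors (R := C) (S := (Spec (CommRingCat.of C)).presheaf.stalk η)
      η.asIdeal.primeCompl_le_nonZeroDivisors
  refine mul_right_cancel₀ hne (hsp.trans ?_)
  have h2 : φ (a * b') * (d : C) = c * φ (t : A) := by
    show φ (a * b') * (d : C) = c * φ (a' * b)
    rw [map_mul, map_mul, ← h, ← h']
    ring
  have hdne : algebraMap C ((Spec (CommRingCat.of C)).presheaf.stalk η) (d : C) ≠ 0 :=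
    (IsLocalization.map_units _ d).ne_zero
  refine mul_right_cancel₀ hdne ?_
  rw [← map_mul, h2, map_mul, mul_right_comm, IsLocalization.mk'_spec]

end Groth.Agent.RatSingExt
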