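import Groth.Agent.RatSingExt.Model
import Groth.Agent.RatSingExt.Dim
import Groth.Agent.FibVanish.QCoh
import Groth.Agent.FibVanish.Birational
import Groth.Agent.AVTheta8.FiniteSupp
import Groth.Agent.DerBC7.SplitPush
import Groth.Agent.CurveBC.Coh
import Groth.Agent.CurveCohLib.Proper
import Groth.Agent.QCoh.RpushStalk

/-! Local rings of modifications of rational singularities are rational singularities. -/

noncomputable section

set_option linter.style.haveILetI false
set_option linter.unusedSectionVars false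
set_option backward.isDefEq.respectTransparency false
set_option backward.isDefEq.respectTransparency.types false
set_option maxHeartbeats 1000000

universe u

open CategoryTheory CategoryTheory.Limits AlgebraicGeometry TopologicalSpace Opposite

namespace Groth.Agent.RatSingExt

open Groth.Agent

theorem subsingleton_H_of_iso {X : TopCat.{u}} {A B : CohTop.Ab X} (e : A ≅ B) (n : ℕ) (h : Subsingleton (CohTop.H A n)) :
    Subsingleton (CohTop.H B n) := by
  refine subsingleton_of_forall_eq 0 fun x => ?_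
  rw [← Sheaf.H.map_id_apply x, ← e.inv_hom_id, Sheaf.H.map_comp_apply, h.elim (Sheaf.H.map e.inv n x) 0, map_zero]

/-- Birational morphisms compose. -/
theorem exists_isIso_comp {X Y S : Scheme.{u}} [AlgebraicGeometry.IsIntegral X] (π : Y ⟶ X) (s : X ⟶ S)
    (hs : ∃ U : S.Opens, (U : Set S).Nonempty ∧ IsIso (s ∣_ U))
    (hπ : ∃ V : X.Opens, (V : Set X).Nonempty ∧ IsIso (π ∣_ V)) :
    ∃ U : S.Opens, (U : Set S).Nonempty ∧ IsIso ((π ≫ s) ∣_ U) := by
  obtain ⟨U, ⟨u, hu⟩, hUi⟩ := hs
  obtain ⟨V, hV, hVi⟩ := hπ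
  haveI := hUi
  let W : X.Opens := (s ⁻¹ᵁ U) ⊓ V
  obtain ⟨w, -⟩ := (s ∣_ U).surjective ⟨u, hu⟩
  obtain ⟨z, hz⟩ : (W : Set X).Nonempty := by
    have h1 : (V : Set X) ∩ (s ⁻¹ᵁ U : X.Opens) ≠ ∅ :=
      (nonempty_preirreducible_inter V.2 (s ⁻¹ᵁ U).2 hV ⟨w.1, w.2⟩).ne_empty
    obtain ⟨z, h2, h3⟩ := Set.nonempty_iff_ne_empty.2 h1
    exact ⟨z, h3, h2⟩
  let T : S.Opens := U.ι ''ᵁ ((s ∣_ U) ''ᵁ ((s ⁻¹ᵁ U).ι ⁻¹ᵁ W))
  have hTU : T ≤ U := U.ι_image_le _
  have hsT : s ⁻¹ᵁ T = W := by
    rw [← image_morphismRestrict_preimage]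
    rw [Scheme.Hom.preimage_image_eq, Scheme.Hom.image_preimage_eq_opensRange_inf, Scheme.Opens.opensRange_ι]
    exact inf_of_le_right inf_le_left
  haveI : IsIso (s ∣_ T) := @ExistEasy.isIso_restrict_of_le _ _ s U T hUi hTU
  haveI : IsIso (π ∣_ s ⁻¹ᵁ T) := by
    rw [hsT]
    exact @ExistEasy.isIso_restrict_of_le _ _ π V W hVi inf_le_right
  refine ⟨T, ⟨s z, (show z ∈ s ⁻¹ᵁ T from hsT.symm ▸ hz)⟩, ?_⟩
  rw [morphismRestrict_comp]
  infer_instance

/-- The higher direct images along a birational morphism over a rational singularity vanish. -/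
theorem isZero_Rpush {A : Type u} [CommRing A] [IsDomain A] [IsLocalRing A] [IsNoetherianRing A]
    (hdim : ringKrullDim A = 2) (hA : Curv2.IsRationalSing A) {X : Scheme.{u}}
    (s : X ⟶ Spec (CommRingCat.of A)) [IsProper s] [AlgebraicGeometry.IsIntegral X] (hX : Pi1.IsNormalScheme X)
    (hbir : ∃ U : (Spec (CommRingCat.of A)).Opens, (U : Set (Spec (CommRingCat.of A))).Nonempty ∧ IsIso (s ∣_ U))
    {Y : Scheme.{u}} [AlgebraicGeometry.IsIntegral Y] (hY : Pi1.IsNormalScheme Y) (π : Y ⟶ X) [IsProper π]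
    [HasInjectiveResolutions Y.Modules]
    (hgen : π (genericPoint Y) = genericPoint X) (hπ : IsIso (π.stalkMap (genericPoint Y))) :
    IsZero ((Coh.Rpush π 1).obj (Coh.structureModule Y)) := by
  classical
  letI : X.Over (Spec (CommRingCat.of A)) := ⟨s⟩
  haveI : IsProper (X ↘ Spec (CommRingCat.of A)) := ‹IsProper s›
  haveI := FibVanish.isNoetherian_of_proper A (X := X)
  haveI : CompactSpace Y := QuasiCompact.compactSpace_of_compactSpace π
  haveI : IsLocallyNoetherian Y := LocallyOfFiniteType.isLocallyNoetherian π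
  obtain ⟨V, hVi, -, hVc⟩ := S11555.result π hX hgen (ConcreteCategory.bijective_of_isIso _)
  haveI := hVi
  have hVne : (V : Set X).Nonempty := ⟨genericPoint X, by_contra fun h => by
    have h2 := hVc (genericPoint X) h
    rw [ringKrullDim_eq_zero_of_isField (Field.toIsField X.functionField)] at h2
    exact absurd h2 (by decide)⟩
  let T : Set X := (V : Set X)ᶜ
  have hTc : ∀ y ∈ T, IsClosed ({y} : Set X) := fun y hy =>
    isClosed_of_dim (fun z => (dim_stalk_le s hbir z).trans hdim.le) y (hVc y hy)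
  have hT : T.Finite := by
    obtain ⟨S, hS⟩ := NoetherianSpace.exists_finite_set_closeds_irreducible (⟨T, V.2.isClosed_compl⟩ : Closeds X)
    obtain ⟨hSf, hSi, hSu⟩ := hS
    refine (hSf.biUnion (t := fun C : Closeds X => (C : Set X)) fun C hC => ?_).subset ?_
    · obtain ⟨c, hc⟩ := QuasiSober.sober (hSi C hC) C.isClosed
      have hcT : c ∈ T := by
        have : (C : Set X) ⊆ T := by
          have hle : C ≤ sSup S := le_sSup hC
          rw [← hSu] at hle
          exact hle
        exact this hc.mem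
      rw [← hc.def, (hTc c hcT).closure_eq]
      exact Set.finite_singleton c
    · intro t ht
      have h : t ∈ ((⟨T, V.2.isClosed_compl⟩ : Closeds X) : Set X) := ht
      rw [hSu, ← hSf.coe_toFinset, ← Finset.sup_id_eq_sSup, Closeds.coe_finset_sup, Finset.sup_set_eq_biUnion] at h
      simpa using h
  let F := Coh.structureModule Y
  have hq : ∀ q, Coh.IsQCoh ((Coh.Rpush π q).obj F) := fun q => QCoh.isQCoh_Rpush π QCoh.isQCoh_structureModule q
  have hstalk : ∀ q (y : X), y ∈ V → Subsingleton (((Coh.Rpush π (q + 1)).obj F).presheaf.stalk y) := by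
    intro q y hy
    obtain ⟨_, ⟨W, hW, rfl⟩, hyW, hWV⟩ := X.isBasis_affineOpens.exists_subset_of_mem_open hy V.2
    haveI : IsIso (π ∣_ W) := ExistEasy.isIso_restrict_of_le π hWV
    haveI : IsAffine (W : Scheme.{u}) := hW
    have hπW : IsAffineOpen (π ⁻¹ᵁ W) := IsAffine.of_isIso (π ∣_ W)
    exact not_not.1 (LerayEuler.notMem_support_Rpush π QCoh.isQCoh_structureModule q hW hyW hπW)
  have hfl : ∀ q, QCoh.IsFlasqueMod ((Coh.Rpush π (q + 1)).obj F) := fun q =>
    AVTheta8.isFlasqueMod_of_finite hT hTc fun W hW => ⟨fun a b => by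
      refine TopCat.Presheaf.section_ext (C := Ab)
        (⟨((Coh.Rpush π (q + 1)).obj F).presheaf, ((Coh.Rpush π (q + 1)).obj F).isSheaf⟩ : TopCat.Sheaf Ab X)
        W a b fun y hy => ?_
      haveI := hstalk q y (by_contra fun h => Set.disjoint_left.1 hW hy h)
      exact Subsingleton.elim (α := ((Coh.Rpush π (q + 1)).obj F).presheaf.stalk y) _ _⟩
  haveI : IsIso (ClSub.unitToPush π) :=
    DerBC7.isIso_unitToPush π fun W => ZarConn.isIso_app_of_birational hX π hgen hπ W
  have hX1 : Subsingleton (Coh.HH X (Coh.structureModule X) 1) := hA X s inferInstance inferInstance hX hbir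
  have hfib : ∀ y : ↥(Spec (CommRingCat.of A)), IsClosed ({y} : Set ↥(Spec (CommRingCat.of A))) →
      topologicalKrullDim ↥(s ⁻¹' {y}) ≤ (1 : ℕ) := fun y hy => by
    refine FibVanish.fibre_dim_le_one A hdim.le s hbir y fun h => ?_
    have hm := (PrimeSpectrum.isClosed_singleton_iff_isMaximal y).1 hy
    rw [h] at hm
    have hF : IsField A := Ring.isField_iff_maximal_bot.2 hm
    rw [ringKrullDim_eq_zero_of_isField hF] at hdim
    exact absurd hdim (by decide)
  have hXp : ∀ p, Subsingleton (Coh.HH X (Coh.structureModule X) (p + 1)) := fun p => by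
    cases p with
    | zero => exact hX1
    | succ n => exact FibVanish.subsingleton_HH_qcoh hfib QCoh.isQCoh_structureModule (by omega)
  have hiso : ∀ q, Nonempty ((CohTop.Rpush π.base (q + 1)).obj (Coh.toAb F) ≅ Coh.toAb ((Coh.Rpush π (q + 1)).obj F)) := by
    intro q
    obtain ⟨e₁⟩ := QCoh.nonempty_RpushAb_iso π F q
    obtain ⟨e₂⟩ := QCoh.nonempty_Rpush_iso π F q
    exact ⟨e₁ ≪≫ ((SheafOfModules.toSheaf X.ringCatSheaf).mapIso e₂.symm)⟩
  obtain ⟨e⟩ := S0494.result π.base (Coh.toAb F) (fun p q => by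
    cases q with
    | zero =>
      obtain ⟨e₀⟩ := QCoh.nonempty_RpushAb_zero_iso π F
      exact subsingleton_H_of_iso ((SheafOfModules.toSheaf X.ringCatSheaf).mapIso (asIso (ClSub.unitToPush π)) ≪≫ e₀.symm)
        (p + 1) (hXp p)
    | succ n =>
      obtain ⟨i⟩ := hiso n
      haveI := LerayEuler.subsingleton_HH_flasque (hfl n) p
      exact subsingleton_H_of_iso i.symm (p + 1) this) 1
  obtain ⟨i⟩ := hiso 0
  haveI hY1 : Subsingleton (Coh.HH Y F 1) := by
    exact hA Y (π ≫ s) inferInstance inferInstance hY (exists_isIso_comp π s hbir ⟨V, hVne, hVi⟩)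
  haveI : Subsingleton Γ((Coh.Rpush π 1).obj F, ⊤) := by
    refine subsingleton_of_forall_eq 0 fun x => ?_
    haveI : Subsingleton (((CohTop.Rpush π.base 1).obj (Coh.toAb F)).obj.obj (op ⊤)) := e.symm.toEquiv.subsingleton
    have : Function.Surjective (i.hom.hom.app (op ⊤)).hom :=
      ((ConcreteCategory.isIso_iff_bijective _).1 inferInstance).2
    obtain ⟨y, rfl⟩ := this x
    rw [Subsingleton.elim y 0, map_zero]
  refine QCoh.isZero_of_cover (hq 1) (fun W : X.affineOpens => W.1) (fun W => W.2)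
    (fun x => by
      obtain ⟨_, ⟨W, hW, rfl⟩, hx, -⟩ := X.isBasis_affineOpens.exists_subset_of_mem_open (Set.mem_univ x) isOpen_univ
      exact ⟨⟨W, hW⟩, hx⟩) fun W => ?_
  exact Function.Surjective.subsingleton ((AddCommGrpCat.epi_iff_surjective _).1 ((hfl 0).epi (homOfLE (le_top : W.1 ≤ ⊤)).op))

/-- A local ring of a normal modification of a rational singularity is a rational singularity. -/
theorem isRationalSing_stalk {A : Type u} [CommRing A] [IsDomain A] [IsLocalRing A] [IsNoetherianRing A]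
    (hN : CAlg.IsNagata A) (hdim : ringKrullDim A = 2) (hA : Curv2.IsRationalSing A) {X : Scheme.{u}}
    (s : X ⟶ Spec (CommRingCat.of A)) [IsProper s] [AlgebraicGeometry.IsIntegral X] (hX : Pi1.IsNormalScheme X)
    (hbir : ∃ U : (Spec (CommRingCat.of A)).Opens, (U : Set (Spec (CommRingCat.of A))).Nonempty ∧ IsIso (s ∣_ U))
    (x : X) : Curv2.IsRationalSing (X.presheaf.stalk x) := by
  intro X₁ f₁ hf₁ hint hnorm hb₁
  haveI := hf₁
  haveI := hint
  obtain ⟨Y, π, g, hπ, hYn, ⟨hY, hgen, hπbir⟩, -, hsq⟩ := exists_model A hN s hX x f₁ hnorm hb₁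
  haveI := hπ
  haveI := hY
  haveI : IsNoetherianRing (X.presheaf.stalk x) := by
    haveI : IsLocallyNoetherian X := LocallyOfFiniteType.isLocallyNoetherian s
    infer_instance
  letI : X₁.Over (Spec (CommRingCat.of (X.presheaf.stalk x))) := ⟨f₁⟩
  obtain ⟨e⟩ := QCoh.nonempty_stalk_HH π (F := Coh.structureModule Y) QCoh.isQCoh_structureModule x 1 X₁ g hsq
  have hz := isZero_Rpush hdim hA s hX hbir hYn π hgen hπbir
  haveI : Subsingleton (((Coh.Rpush π 1).obj (Coh.structureModule Y)).presheaf.stalk x) := by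
    refine subsingleton_of_forall_eq 0 fun t => ?_
    obtain ⟨W, hW, σ, rfl⟩ := ((Coh.Rpush π 1).obj (Coh.structureModule Y)).presheaf.germ_exist t
    haveI := AVTheta8.vanAt_of_isZero_Rpush.subsingleton_of_isZero_mod hz W
    rw [Subsingleton.elim σ 0, map_zero]
  exact QCoh.subsingleton_HH_of_iso (CurveBC.unitIso g) 1 e.symm.toEquiv.subsingleton

end Groth.Agent.RatSingExt
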